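import Groth.Agent.EtConeLib.Contract
import Mathlib.RingTheory.MvPolynomial.Homogeneous

/-!
# Affine cones are contracted to their vertices

Modulo homotopy invariance of etale cohomology for the affine line, restriction to the vertex of an affine cone is
bijective on cohomology with constant coefficients.
-/

set_option autoImplicit false
set_option linter.style.haveILetI false
set_option backward.isDefEq.respectTransparency false
set_option backward.isDefEq.respectTransparency.types false
set_option maxHeartbeats 1000000

universe u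

open CategoryTheory CategoryTheory.Limits AlgebraicGeometry

noncomputable section

namespace EtConeLib

/-- Pullback along the projection of the affine line over an affine scheme is bijective on cohomology. -/
def LineInvariant (R : Type u) [CommRing R] (M : Type) [AddCommGroup M] (i : ℕ) : Prop :=
  Function.Bijective (cPull M i (Spec.map (CommRingCat.ofHom (Polynomial.C : R →+* Polynomial R))))

theorem specMap_comp {A B C : Type u} [CommRing A] [CommRing B] [CommRing C] (f : A →+* B) (g : B →+* C) :
    Spec.map (CommRingCat.ofHom g) ≫ Spec.map (CommRingCat.ofHom f) = Spec.map (CommRingCat.ofHom (g.comp f)) := by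
  rw [← Spec.map_comp]
  rfl

/-- A scaling `R → R[t]` specializing to the identity at `1` and factoring through `k` at `0` contracts `Spec R`. -/
theorem bijective_cPull_of_scaling (M : Type) [AddCommGroup M] (i : ℕ) {R k : Type u} [CommRing R] [CommRing k]
    (sc : R →+* Polynomial R) (η : k →+* R) (ε : R →+* k) (hεη : ε.comp η = RingHom.id k) (hL : LineInvariant R M i)
    (h1 : (Polynomial.evalRingHom (1 : R)).comp sc = RingHom.id R)
    (h0 : (Polynomial.evalRingHom (0 : R)).comp sc = η.comp ε) :
    Function.Bijective (cPull M i (Spec.map (CommRingCat.ofHom ε))) := by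
  have hev : ∀ c : R, (Polynomial.evalRingHom c).comp Polynomial.C = RingHom.id R :=
    fun c => RingHom.ext fun x => Polynomial.eval_C
  have hc : ∀ c : R, Spec.map (CommRingCat.ofHom (Polynomial.evalRingHom c)) ≫
      Spec.map (CommRingCat.ofHom (Polynomial.C : R →+* Polynomial R)) = 𝟙 (Spec (CommRingCat.of R)) := fun c => by
    rw [specMap_comp, hev c]
    exact Spec.map_id _
  refine bijective_cPull_of_contraction M i (Spec.map (CommRingCat.ofHom η)) _ ?_ _ _ _ (hc 0) (hc 1) hL
    (Spec.map (CommRingCat.ofHom sc)) ?_ ?_
  · rw [specMap_comp, hεη]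
    exact Spec.map_id _
  · rw [specMap_comp, specMap_comp, h0]
  · rw [specMap_comp, h1]
    exact Spec.map_id _

variable {k : Type u} [Field k] {N : ℕ} (I : Ideal (MvPolynomial (Fin N) k))

/-- The scaling map on generators. -/
def scale₀ : MvPolynomial (Fin N) k →+* Polynomial (MvPolynomial (Fin N) k ⧸ I) :=
  MvPolynomial.eval₂Hom (Polynomial.C.comp (algebraMap k (MvPolynomial (Fin N) k ⧸ I)))
    (fun i => Polynomial.X * Polynomial.C (Ideal.Quotient.mk I (MvPolynomial.X i)))

theorem scale₀_homogeneous {p : MvPolynomial (Fin N) k} {d : ℕ} (hp : p.IsHomogeneous d) :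
    scale₀ I p = Polynomial.X ^ d * Polynomial.C (Ideal.Quotient.mk I p) := by
  induction hp using MvPolynomial.IsWeightedHomogeneous.induction_on with
  | zero => simp
  | add a b _ _ ha hb => simp [map_add, ha, hb, mul_add]
  | monomial s c hs =>
    have hd : (∑ i ∈ s.support, s i) = d := by
      rw [← hs, Finsupp.weight_apply, Finsupp.sum]
      simp
    rw [MvPolynomial.monomial_eq]
    simp only [scale₀, map_mul, MvPolynomial.eval₂Hom_C, RingHom.comp_apply, Finsupp.prod, map_prod, map_pow,
      MvPolynomial.eval₂Hom_X', mul_pow]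
    rw [Finset.prod_congr rfl fun x _ => mul_pow Polynomial.X (Polynomial.C (Ideal.Quotient.mk I (MvPolynomial.X x))) (s x),
      Finset.prod_mul_distrib, Finset.prod_pow_eq_pow_sum, hd]
    exact mul_left_comm (G := Polynomial (MvPolynomial (Fin N) k ⧸ I)) _ _ _

theorem bijective_cPull_vertex (M : Type) [AddCommGroup M] (i : ℕ) (T : Set (MvPolynomial (Fin N) k))
    (hI : I = Ideal.span T) (hT : ∀ p ∈ T, ∃ d : ℕ, p.IsHomogeneous d)
    (ε : (MvPolynomial (Fin N) k ⧸ I) →+* k)
    (hε : ε.comp (Ideal.Quotient.mk I) = MvPolynomial.eval (fun _ => (0 : k)))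
    (hL : LineInvariant (MvPolynomial (Fin N) k ⧸ I) M i) :
    Function.Bijective (cPull M i (Spec.map (CommRingCat.ofHom ε))) := by
  have hker : ∀ q ∈ I, scale₀ I q = 0 := by
    have h : I ≤ RingHom.ker (scale₀ I) := by
      conv_lhs => rw [hI]
      refine Ideal.span_le.2 fun p hp => ?_
      obtain ⟨d, hd⟩ := hT p hp
      have hpI : p ∈ I := hI ▸ Ideal.subset_span hp
      rw [SetLike.mem_coe, RingHom.mem_ker, scale₀_homogeneous I hd, Ideal.Quotient.eq_zero_iff_mem.2 hpI, map_zero,
        mul_zero]
    exact fun q hq => h hq
  refine bijective_cPull_of_scaling M i (Ideal.Quotient.lift I (scale₀ I) hker) (algebraMap k _) ε ?_ hL ?_ ?_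
  · exact RingHom.ext fun a => (RingHom.congr_fun hε (MvPolynomial.C a)).trans (MvPolynomial.eval_C a)
  · refine Ideal.Quotient.ringHom_ext (MvPolynomial.ringHom_ext (fun a => ?_) fun j => ?_)
    · simp [scale₀]
      rfl
    · simp [scale₀]
  · refine Ideal.Quotient.ringHom_ext (MvPolynomial.ringHom_ext (fun a => ?_) fun j => ?_)
    · have := RingHom.congr_fun hε (MvPolynomial.C a)
      simp only [RingHom.comp_apply, MvPolynomial.eval_C] at this
      simp [scale₀, this]
    · have := RingHom.congr_fun hε (MvPolynomial.X j)
      simp only [RingHom.comp_apply, MvPolynomial.eval_X] at this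
      simp [scale₀, this]

end EtConeLib
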