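import Groth.Agent.HmapLib.Comp
import Groth.Agent.CovDevLib.Basis
import Groth.Agent.S0101

/-!
# Contractions in etale cohomology with constant coefficients

If a scheme `Z` is contracted to `P` by a homotopy parametrized by a scheme `A → Z` whose pullback on cohomology is
bijective, then `Z` and `P` have the same cohomology.
-/

set_option autoImplicit false
set_option linter.style.haveILetI false
set_option backward.isDefEq.respectTransparency false
set_option backward.isDefEq.respectTransparency.types false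
set_option synthInstance.maxHeartbeats 400000
set_option maxHeartbeats 1000000

universe u

open CategoryTheory CategoryTheory.Limits CategoryTheory.Abelian AlgebraicGeometry Opposite DescSecLib

noncomputable section

namespace EtConeLib

variable {A B C : Scheme.{u}} (M : Type) [AddCommGroup M] (i : ℕ)

/-- Pullback on cohomology with constant coefficients. -/
def cPull (f : A ⟶ B) (x : EtCoh.H B (EtCoh.const B M) i) : EtCoh.H A (EtCoh.const A M) i :=
  haveI := Groth.Agent.S0101.result f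
  (EtCore.Hpull f (EtCoh.const B M) i x).comp (Ext.mk₀ (EtCore.pullConst f M).hom) (add_zero i)

theorem cPull_comp (a : A ⟶ B) (b : B ⟶ C) (x : EtCoh.H C (EtCoh.const C M) i) :
    cPull M i a (cPull M i b x) = cPull M i (a ≫ b) x := by
  haveI := Groth.Agent.S0101.result a
  haveI := Groth.Agent.S0101.result b
  haveI := Groth.Agent.S0101.result (a ≫ b)
  show (EtCore.Hpull a (EtCoh.const B M) i ((EtCore.Hpull b (EtCoh.const C M) i x).comp
      (Ext.mk₀ (EtCore.pullConst b M).hom) (add_zero i))).comp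
      (Ext.mk₀ (EtCore.pullConst a M).hom) (add_zero i) =
    (EtCore.Hpull (a ≫ b) (EtCoh.const C M) i x).comp (Ext.mk₀ (EtCore.pullConst (a ≫ b) M).hom) (add_zero i)
  rw [EtAcycLib.Hpull_postcomp, Ext.comp_assoc_of_second_deg_zero, Ext.mk₀_comp_mk₀,
    HmapLib.pullConst_comp a b (a ≫ b) rfl, ← Ext.mk₀_comp_mk₀, ← Ext.comp_assoc_of_second_deg_zero]
  exact congrArg (fun t => Ext.comp t _ (add_zero i)) (EtContLib.hpull_comp a b (a ≫ b) rfl _ i x)

theorem bijective_cPull_iff (f : A ⟶ B) [PreservesFiniteLimits (EtCoh.pull f)] :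
    Function.Bijective (cPull M i f) ↔ Function.Bijective (EtCore.Hpull f (EtCoh.const B M) i) := by
  have hb : Function.Bijective (fun y : EtCoh.H A ((EtCoh.pull f).obj (EtCoh.const B M)) i =>
      Ext.comp y (Ext.mk₀ (EtCore.pullConst f M).hom) (add_zero i)) := by
    refine Function.bijective_iff_has_inverse.2 ⟨fun y => Ext.comp y (Ext.mk₀ (EtCore.pullConst f M).inv) (add_zero i),
      fun y => ?_, fun y => ?_⟩
    · simp [Ext.comp_assoc_of_second_deg_zero]
    · simp [Ext.comp_assoc_of_second_deg_zero]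
  exact hb.of_comp_iff' (EtCore.Hpull f (EtCoh.const B M) i)

theorem cPull_id (x : EtCoh.H A (EtCoh.const A M) i) : cPull M i (𝟙 A) x = x := by
  haveI := Groth.Agent.S0101.result (𝟙 A)
  refine ((bijective_cPull_iff M i (𝟙 A)).2 (CovDevLib.bijective_Hpull_iso _ _ _)).1 ?_
  exact (cPull_comp M i (𝟙 A) (𝟙 A) x).trans (congrArg (fun f => cPull M i f x) (Category.id_comp (𝟙 A)))

/-- **Homotopy invariance**: two sections of a morphism inducing a bijection on cohomology induce the same map. -/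
theorem cPull_eq_of_sections {Z T V : Scheme.{u}} (pr : T ⟶ Z) (e₀ e₁ : Z ⟶ T) (h₀ : e₀ ≫ pr = 𝟙 Z) (h₁ : e₁ ≫ pr = 𝟙 Z)
    (hpr : Function.Bijective (cPull M i pr)) (m : T ⟶ V) (x : EtCoh.H V (EtCoh.const V M) i) :
    cPull M i (e₀ ≫ m) x = cPull M i (e₁ ≫ m) x := by
  rw [← cPull_comp M i e₀ m x, ← cPull_comp M i e₁ m x]
  obtain ⟨y, hy⟩ := hpr.2 (cPull M i m x)
  rw [← hy, cPull_comp M i e₀ pr y, cPull_comp M i e₁ pr y, h₀, h₁]

/-- **Contractions.** -/
theorem bijective_cPull_of_contraction {Z P T : Scheme.{u}} (p : Z ⟶ P) (i₀ : P ⟶ Z) (hi : i₀ ≫ p = 𝟙 P)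
    (pr : T ⟶ Z) (e₀ e₁ : Z ⟶ T) (h₀ : e₀ ≫ pr = 𝟙 Z) (h₁ : e₁ ≫ pr = 𝟙 Z)
    (hpr : Function.Bijective (cPull M i pr)) (m : T ⟶ Z) (hm₀ : e₀ ≫ m = p ≫ i₀) (hm₁ : e₁ ≫ m = 𝟙 Z) :
    Function.Bijective (cPull M i i₀) := by
  refine Function.bijective_iff_has_inverse.2 ⟨cPull M i p, fun x => ?_, fun y => ?_⟩
  · rw [cPull_comp M i p i₀ x, ← hm₀, cPull_eq_of_sections M i pr e₀ e₁ h₀ h₁ hpr m x, hm₁, cPull_id]
  · rw [cPull_comp M i i₀ p y, hi, cPull_id]

end EtConeLib
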