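import Groth.Agent.EtConeLib.Vertex
import Groth.Agent.EtSmAcycLib.AffSpace
import Groth.Agent.EtAcycFibLib.Base
import Groth.Agent.LocAcycPointLib.Coeff

/-!
# Homotopy invariance for the affine line with constant coefficients
-/

set_option autoImplicit false
set_option linter.style.haveILetI false
set_option backward.isDefEq.respectTransparency false
set_option backward.isDefEq.respectTransparency.types false
set_option maxHeartbeats 1000000

universe u

open CategoryTheory CategoryTheory.Limits AlgebraicGeometry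

noncomputable section

namespace EtConeLib

attribute [local instance] EtSliceLib.pullExact

/-- For `r` invertible on the base, the affine line does not change cohomology with coefficients mod `r`. -/
theorem lineInvariant (R : Type u) [CommRing R] (r : ℕ) (hr0 : 0 < r) (hr : IsUnit (r : R))
    (hne : ∃ ℓ : ℕ, ℓ.Prime ∧ IsUnit (ℓ : R)) (i : ℕ) : LineInvariant R (ZMod r) i := by
  let L : Set ℕ := EtAcyc.primesInvertibleOn (Spec (CommRingCat.of R))
  have hmem : ∀ ℓ : ℕ, ℓ.Prime → IsUnit (ℓ : R) → ℓ ∈ L := fun ℓ hp hu => ⟨hp, fun x => by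
    have h := ((hu.map (Scheme.ΓSpecIso (CommRingCat.of R)).inv.hom).map
      ((Spec (CommRingCat.of R)).Γevaluation x).hom).ne_zero
    rwa [map_natCast, map_natCast] at h⟩
  obtain ⟨ℓ₀, hℓ₀, hu₀⟩ := hne
  let e : CommRingCat.of (MvPolynomial PUnit.{u + 1} R) ≅ CommRingCat.of (Polynomial R) :=
    (MvPolynomial.pUnitAlgEquiv R).toRingEquiv.toCommRingCatIso
  have he : Spec.map (CommRingCat.ofHom (Polynomial.C : R →+* Polynomial R)) =
      (Spec.map e.hom ≫ (AffineSpace.SpecIso PUnit.{u + 1} (CommRingCat.of R)).inv) ≫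
        (𝔸(PUnit.{u + 1}; Spec (CommRingCat.of R)) ↘ Spec (CommRingCat.of R)) := by
    rw [Category.assoc, AffineSpace.SpecIso_inv_over, ← Spec.map_comp]
    congr 1
    ext x : 2
    exact ((MvPolynomial.pUnitAlgEquiv R).commutes x).symm
  have hA : EtAcyc.IsAcyclicN (Spec.map (CommRingCat.ofHom (Polynomial.C : R →+* Polynomial R))) L i := by
    rw [he]
    exact ((Groth.Agent.S3513.result _ _ _ i).1 (EtSmAcycLib.isAcyclicN_of_isIso _ _ _)).1
      (EtSmAcycLib.isAcyclicN_affineSpace _ _ L subset_rfl ⟨ℓ₀, hmem _ hℓ₀ hu₀, hℓ₀⟩ i)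
  have hT : EtAcyc.IsLTorsion L (EtCoh.const (Spec (CommRingCat.of R)) (ZMod r)) :=
    LocAcycPointLib.isLTorsion_const ⟨hr0, fun p hp hd => hmem p hp (isUnit_of_dvd_unit (Nat.cast_dvd_cast hd) hr)⟩
  exact (bijective_cPull_iff (ZMod r) i _).2 ((EtAcycFibLib.compN_of_acyclicN hA _ hT).1 i le_rfl)

theorem exists_prime_ne_zero (k : Type u) [Field k] : ∃ ℓ : ℕ, ℓ.Prime ∧ (ℓ : k) ≠ 0 := by
  by_cases h : ((2 : ℕ) : k) = 0
  · refine ⟨3, Nat.prime_three, fun h3 => one_ne_zero (α := k) ?_⟩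
    have : ((3 : ℕ) : k) = ((2 : ℕ) : k) + 1 := by norm_num
    rw [this, h, zero_add] at h3
    exact h3
  · exact ⟨2, Nat.prime_two, h⟩

/-- Homotopy invariance over an algebra over a field. -/
theorem lineInvariant_of_field (k R : Type u) [Field k] [CommRing R] [Algebra k R] (r : ℕ) (hr : (r : k) ≠ 0)
    (i : ℕ) : LineInvariant R (ZMod r) i := by
  have h : ∀ m : ℕ, (m : k) ≠ 0 → IsUnit (m : R) := fun m hm => by
    simpa using (IsUnit.mk0 _ hm).map (algebraMap k R)
  obtain ⟨ℓ, hp, hℓ⟩ := exists_prime_ne_zero k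
  exact lineInvariant R r (Nat.pos_of_ne_zero fun h0 => hr (by simp [h0])) (h r hr) ⟨ℓ, hp, h ℓ hℓ⟩ i

end EtConeLib
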