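import Groth.Agent.EtConeLib.Cone
import Groth.Agent.EtPBCCdLib.LqfSquare

/-!
# Cones over hypersurfaces and projective varieties
-/

set_option autoImplicit false
set_option linter.style.haveILetI false
set_option backward.isDefEq.respectTransparency false
set_option backward.isDefEq.respectTransparency.types false
set_option maxHeartbeats 1000000

universe u

open CategoryTheory CategoryTheory.Limits AlgebraicGeometry

noncomputable section

namespace EtConeLib

theorem hypersurface (k : Type u) [Field k] (n d : ℕ)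
    (f : MvPolynomial (Fin (n + 1)) k) (hf : f.IsHomogeneous d) (M : Type) [AddCommGroup M] (i : ℕ)
    (i₀ : Spec (CommRingCat.of k) ⟶ Spec (CommRingCat.of (MvPolynomial (Fin (n + 1)) k ⧸ Ideal.span {f})))
    (hi₀ : i₀ ≫ Spec.map (CommRingCat.ofHom (Ideal.Quotient.mk (Ideal.span {f}))) =
      Spec.map (CommRingCat.ofHom (MvPolynomial.eval (fun _ : Fin (n + 1) => (0 : k)))))
    [PreservesFiniteLimits (EtCoh.pull i₀)]
    (hL : LineInvariant (MvPolynomial (Fin (n + 1)) k ⧸ Ideal.span {f}) M i) :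
    Function.Bijective (EtCore.Hpull i₀
      (EtCoh.const (Spec (CommRingCat.of (MvPolynomial (Fin (n + 1)) k ⧸ Ideal.span {f}))) M) i) := by
  obtain ⟨φ, rfl⟩ := Spec.map_surjective i₀
  refine (bijective_cPull_iff M i _).1 ?_
  refine bijective_cPull_vertex (Ideal.span {f}) M i {f} rfl (fun p hp => ⟨d, by rwa [Set.mem_singleton_iff.1 hp]⟩)
    φ.hom ?_ hL
  rw [← Spec.map_comp] at hi₀
  exact congrArg CommRingCat.Hom.hom (Spec.map_injective hi₀)

theorem projective (k : Type u) [Field k] [IsAlgClosed k] (r : ℕ)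
    (I : Ideal (MvPolynomial (Fin (r + 1)) k))
    (hIh : ∃ T : Set (MvPolynomial (Fin (r + 1)) k), I = Ideal.span T ∧
      ∀ p ∈ T, ∃ d : ℕ, 1 ≤ d ∧ MvPolynomial.IsHomogeneous p d)
    (ε : (MvPolynomial (Fin (r + 1)) k ⧸ I) →ₐ[k] k) (hε : ∀ i, ε (Ideal.Quotient.mk I (MvPolynomial.X i)) = 0)
    (M : Type) [AddCommGroup M]
    [PreservesFiniteLimits (EtCoh.pull (Spec.map (CommRingCat.ofHom ε.toRingHom)))]
    (hL : ∀ i, LineInvariant (MvPolynomial (Fin (r + 1)) k ⧸ I) M i) :
    Function.Bijective (EtCore.Hpull (Spec.map (CommRingCat.ofHom ε.toRingHom))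
        (EtCoh.const (Spec (CommRingCat.of (MvPolynomial (Fin (r + 1)) k ⧸ I))) M) 0) ∧
      ∀ i : ℕ, 1 ≤ i →
        Subsingleton (EtCoh.H (Spec (CommRingCat.of (MvPolynomial (Fin (r + 1)) k ⧸ I)))
          (EtCoh.const (Spec (CommRingCat.of (MvPolynomial (Fin (r + 1)) k ⧸ I))) M) i) := by
  obtain ⟨T, hT, hhom⟩ := hIh
  have key : ∀ i, Function.Bijective (cPull M i (Spec.map (CommRingCat.ofHom ε.toRingHom))) := fun i => by
    refine bijective_cPull_vertex I M i T hT (fun p hp => (hhom p hp).imp fun d h => h.2) ε.toRingHom ?_ (hL i)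
    refine MvPolynomial.ringHom_ext (fun a => ?_) fun j => ?_
    · simp only [RingHom.comp_apply, MvPolynomial.eval_C]
      exact ε.commutes a
    · simp [hε j]
  refine ⟨(bijective_cPull_iff M 0 _).1 (key 0), fun i hi => ?_⟩
  haveI := EtPBCCdLib.subsingleton_H_point (𝟙 (Spec (CommRingCat.of k))) (EtCoh.const (Spec (CommRingCat.of k)) M) i hi
  exact (key i).1.subsingleton

end EtConeLib
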